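import Cfsg.Agent.Lib.KnownB.PSpFourSquare.Two
import Cfsg.Agent.Lib.Classical.SympSimple

/-!
The Siegel Levi class in the symplectic group of dimension four and its products of two elements.
-/

set_option autoImplicit false

namespace CfsgLib.KnownB.PSpFourSquare

open Matrix CfsgLib.Classical

variable {F : Type*} [Field F]

local notation "Sp4" => Matrix.symplecticGroup (Fin 2) F
local notation "M2" => Matrix (Fin 2) (Fin 2) F

/-- The Levi element of `A`. -/
noncomputable def lev (A : M2) (h : IsUnit A.det) : Sp4 :=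
  ⟨fromBlocks A 0 0 (Aᵀ)⁻¹, by
    rw [SymplecticGroup.mem_iff']
    simp [Matrix.J, fromBlocks_transpose, fromBlocks_multiply, transpose_nonsing_inv,
      Matrix.nonsing_inv_mul _ h, Matrix.mul_nonsing_inv _ (isUnit_det_transpose _ h)]⟩

/-- The upper unipotent element of a symmetric matrix. -/
def upU (S : M2) (h : Sᵀ = S) : Sp4 :=
  ⟨fromBlocks 1 S 0 1, by
    rw [SymplecticGroup.mem_iff']
    simp [Matrix.J, fromBlocks_transpose, fromBlocks_multiply, h]⟩

/-- The lower unipotent element of a symmetric matrix. -/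
def lowL (S : M2) (h : Sᵀ = S) : Sp4 :=
  ⟨fromBlocks 1 0 S 1, by
    rw [SymplecticGroup.mem_iff']
    simp [Matrix.J, fromBlocks_transpose, fromBlocks_multiply, h]⟩

theorem sp_block_rel (g : Sp4) {M B N D : M2} (hg : g.1 = fromBlocks M B N D) :
    Nᵀ * M = Mᵀ * N ∧ B * Mᵀ = M * Bᵀ ∧ Mᵀ * D - Nᵀ * B = 1 := by
  have h1 := SymplecticGroup.mem_iff'.1 g.2
  have h2 := SymplecticGroup.mem_iff.1 g.2
  rw [hg] at h1 h2
  simp [Matrix.J, fromBlocks_transpose, fromBlocks_multiply] at h1 h2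
  obtain ⟨a1, a2, -, -⟩ := h1
  obtain ⟨b1, -, -, -⟩ := h2
  refine ⟨?_, ?_, ?_⟩
  · rwa [← sub_eq_add_neg, sub_eq_zero] at a1
  · rwa [← sub_eq_add_neg, sub_eq_zero] at b1
  · linear_combination (norm := module) -a2

/-- The Siegel Gauss decomposition. -/
theorem gauss (g : Sp4) {M B N D : M2} (hg : g.1 = fromBlocks M B N D) (hM : IsUnit M.det) :
    ∃ (K U : M2) (hK : Kᵀ = K) (hU : Uᵀ = U), g = lowL K hK * lev M hM * upU U hU := by
  obtain ⟨h1, h2, h3⟩ := sp_block_rel g hg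
  have hMT : IsUnit (Mᵀ).det := isUnit_det_transpose _ hM
  have hK : (N * M⁻¹)ᵀ = N * M⁻¹ := by
    rw [Matrix.transpose_mul, Matrix.transpose_nonsing_inv]
    calc (Mᵀ)⁻¹ * Nᵀ = (Mᵀ)⁻¹ * (Nᵀ * M) * M⁻¹ := by
          rw [Matrix.mul_assoc, Matrix.mul_assoc, Matrix.mul_nonsing_inv _ hM, Matrix.mul_one]
      _ = N * M⁻¹ := by rw [h1, ← Matrix.mul_assoc, Matrix.nonsing_inv_mul _ hMT, Matrix.one_mul]
  have hU : (M⁻¹ * B)ᵀ = M⁻¹ * B := by
    rw [Matrix.transpose_mul, Matrix.transpose_nonsing_inv]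
    calc Bᵀ * (Mᵀ)⁻¹ = M⁻¹ * (M * Bᵀ) * (Mᵀ)⁻¹ := by
          rw [← Matrix.mul_assoc M⁻¹, Matrix.nonsing_inv_mul _ hM, Matrix.one_mul]
      _ = M⁻¹ * B := by
          rw [← h2, Matrix.mul_assoc, Matrix.mul_assoc, Matrix.mul_nonsing_inv _ hMT, Matrix.mul_one]
  refine ⟨_, _, hK, hU, Subtype.ext ?_⟩
  rw [hg, Submonoid.coe_mul, Submonoid.coe_mul]
  simp only [lowL, lev, upU, fromBlocks_multiply, Matrix.one_mul, Matrix.mul_one, Matrix.zero_mul,
    Matrix.mul_zero, add_zero, zero_add]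
  rw [Matrix.mul_nonsing_inv_cancel_left _ _ hM, Matrix.nonsing_inv_mul_cancel_right _ _ hM]
  congr 1
  have hD : D = (Mᵀ)⁻¹ * (1 + Nᵀ * B) := by
    rw [← h3, sub_add_cancel, Matrix.nonsing_inv_mul_cancel_left _ _ hMT]
  rw [hD, Matrix.mul_add, Matrix.mul_one, ← Matrix.mul_assoc, ← Matrix.mul_assoc, add_comm]
  congr 1
  rw [← Matrix.transpose_nonsing_inv, ← Matrix.transpose_mul, hK]

variable {t d : F}

theorem isUnit_det_of (h : GoodPair t d) {A : M2} (hd : A.det = d) : IsUnit A.det := by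
  rw [hd]; exact isUnit_iff_ne_zero.2 h.d_ne

/-- The distinguished element. -/
noncomputable def base (h : GoodPair t d) : Sp4 :=
  lev (comp t d) (isUnit_det_of h (by simp [comp, Matrix.det_fin_two_of]))

theorem lev_mul (A B : M2) (hA : IsUnit A.det) (hB : IsUnit B.det) :
    lev A hA * lev B hB = lev (A * B) (by rw [Matrix.det_mul]; exact hA.mul hB) := by
  refine Subtype.ext ?_
  simp [lev, fromBlocks_multiply, Matrix.transpose_mul, Matrix.mul_inv_rev]

theorem lev_congr {A B : M2} (hA : IsUnit A.det) (hB : IsUnit B.det) (e : A = B) :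
    lev A hA = lev B hB := by subst e; rfl

theorem isConj_base (h : GoodPair t d) (A : M2) (ht : A.trace = t) (hd : A.det = d) :
    IsConj (base h) (lev A (isUnit_det_of h hd)) := by
  obtain ⟨P, hP, hA⟩ := conj_of_trace_det h A ht hd
  refine isConj_iff.2 ⟨lev P hP, ?_⟩
  rw [mul_inv_eq_iff_eq_mul, base, lev_mul, lev_mul]
  refine lev_congr _ _ ?_
  rw [hA, Matrix.nonsing_inv_mul_cancel_right _ _ hP]

variable [Finite F]

theorem exists_symm_preimage (h : GoodPair t d) (A : M2) (ht : A.trace = t) (hd : A.det = d)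
    (K : M2) (hK : Kᵀ = K) : ∃ T : M2, Tᵀ = T ∧ T - Aᵀ * T * A = K := by
  let f : {T : M2 // Tᵀ = T} → {T : M2 // Tᵀ = T} := fun T =>
    ⟨T.1 - Aᵀ * T.1 * A, by simp [Matrix.transpose_sub, Matrix.transpose_mul, T.2, Matrix.mul_assoc]⟩
  have hf : Function.Injective f := by
    intro S T e
    have e' : S.1 - Aᵀ * S.1 * A = T.1 - Aᵀ * T.1 * A := congrArg Subtype.val e
    refine Subtype.ext (sub_eq_zero.1 (eq_zero_of_preserved h A _ ht hd ?_))
    rw [Matrix.mul_sub, Matrix.sub_mul]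
    linear_combination (norm := module) -e'
  obtain ⟨T, hT⟩ := Finite.surjective_of_injective hf ⟨K, hK⟩
  exact ⟨T.1, T.2, congrArg Subtype.val hT⟩

theorem isConj_lev_upU (h : GoodPair t d) (A : M2) (ht : A.trace = t) (hd : A.det = d)
    (U : M2) (hU : Uᵀ = U) :
    IsConj (base h) (lev A (isUnit_det_of h hd) * upU U hU) := by
  have hu := isUnit_det_of h hd
  obtain ⟨T, hT, hTU⟩ := exists_symm_preimage h Aᵀ (by rw [Matrix.trace_transpose, ht])
    (by rw [Matrix.det_transpose, hd]) (-(A * U * Aᵀ))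
    (by simp [Matrix.transpose_mul, hU, Matrix.mul_assoc])
  rw [Matrix.transpose_transpose] at hTU
  refine (isConj_base h A ht hd).trans (isConj_iff.2 ⟨upU (-T) (by simp [hT]), ?_⟩)
  rw [mul_inv_eq_iff_eq_mul]
  refine Subtype.ext ?_
  simp only [Submonoid.coe_mul, lev, upU, fromBlocks_multiply, Matrix.one_mul, Matrix.mul_one,
    Matrix.zero_mul, Matrix.mul_zero, add_zero, zero_add]
  congr 1
  have e : -T = -(A * T * Aᵀ) + A * U * Aᵀ := by linear_combination (norm := module) -hTU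
  conv_lhs => rw [e]
  rw [Matrix.add_mul, Matrix.neg_mul, Matrix.mul_neg,
    Matrix.mul_nonsing_inv_cancel_right _ _ (isUnit_det_transpose _ hu),
    Matrix.mul_nonsing_inv_cancel_right _ _ (isUnit_det_transpose _ hu)]

theorem isConj_lowL_lev (h : GoodPair t d) (A : M2) (ht : A.trace = t) (hd : A.det = d)
    (K : M2) (hK : Kᵀ = K) :
    IsConj (base h) (lowL K hK * lev A (isUnit_det_of h hd)) := by
  have hu := isUnit_det_of h hd
  have hT' := isUnit_det_transpose _ hu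
  obtain ⟨T, hT, hTK⟩ := exists_symm_preimage h A ht hd (-(Aᵀ * K * A))
    (by simp [Matrix.transpose_mul, hK, Matrix.mul_assoc])
  refine (isConj_base h A ht hd).trans (isConj_iff.2 ⟨lowL T hT, ?_⟩)
  rw [mul_inv_eq_iff_eq_mul]
  refine Subtype.ext ?_
  simp only [Submonoid.coe_mul, lev, lowL, fromBlocks_multiply, Matrix.one_mul, Matrix.mul_one,
    Matrix.zero_mul, Matrix.mul_zero, add_zero, zero_add]
  congr 1
  have e : T = Aᵀ * (T * A - K * A) := by
    rw [Matrix.mul_sub, ← Matrix.mul_assoc, ← Matrix.mul_assoc]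
    linear_combination (norm := module) hTK
  have e2 : (Aᵀ)⁻¹ * T = T * A - K * A := by
    conv_lhs => rw [e]
    rw [Matrix.nonsing_inv_mul_cancel_left _ _ hT']
  rw [e2, add_sub_cancel]

/-- A product of two conjugates of the distinguished element. -/
def Covered (h : GoodPair t d) (g : Sp4) : Prop :=
  ∃ a b : Sp4, IsConj (base h) a ∧ IsConj (base h) b ∧ g = a * b

theorem Covered.conj {h : GoodPair t d} {g : Sp4} (hc : Covered h g) (c : Sp4) :
    Covered h (c * g * c⁻¹) := by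
  obtain ⟨a, b, ha, hb, rfl⟩ := hc
  exact ⟨c * a * c⁻¹, c * b * c⁻¹, ha.trans (isConj_iff.2 ⟨c, rfl⟩),
    hb.trans (isConj_iff.2 ⟨c, rfl⟩), by group⟩

theorem covered_of_corner (h : GoodPair t d) (g : Sp4) (hM : IsTwoProd t d g.1.toBlocks₁₁) :
    Covered h g := by
  obtain ⟨A, B, hAt, hAd, hBt, hBd, hAB⟩ := hM
  have hu : IsUnit g.1.toBlocks₁₁.det := by
    rw [hAB, Matrix.det_mul, hAd, hBd]
    exact isUnit_iff_ne_zero.2 (mul_ne_zero h.d_ne h.d_ne)
  obtain ⟨K, U, hK, hU, hg⟩ := gauss g (fromBlocks_toBlocks g.1).symm hu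
  refine ⟨_, _, isConj_lowL_lev h A hAt hAd K hK, isConj_lev_upU h B hBt hBd U hU, ?_⟩
  rw [hg, lev_congr hu (by rw [← hAB]; exact hu) hAB, ← lev_mul A B (isUnit_det_of h hAd)
    (isUnit_det_of h hBd)]
  simp only [mul_assoc]

variable [Fintype F]

theorem covered_of_lower (h3 : 3 ≤ Fintype.card F) (h : GoodPair t d) (g : Sp4)
    (hN : IsUnit g.1.toBlocks₂₁.det) : Covered h g := by
  obtain ⟨h1, -, -⟩ := sp_block_rel g (fromBlocks_toBlocks g.1).symm
  set M := g.1.toBlocks₁₁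
  set N := g.1.toBlocks₂₁
  obtain ⟨S', hS', hprod⟩ := exists_symm_twoProd h3 h N hN
  have hsym : (M * N⁻¹)ᵀ = M * N⁻¹ := by
    rw [Matrix.transpose_mul, Matrix.transpose_nonsing_inv]
    calc (Nᵀ)⁻¹ * Mᵀ = (Nᵀ)⁻¹ * (Mᵀ * N) * N⁻¹ := by
          rw [Matrix.mul_assoc, Matrix.mul_assoc, Matrix.mul_nonsing_inv _ hN, Matrix.mul_one]
      _ = M * N⁻¹ := by
          rw [← h1, ← Matrix.mul_assoc, Matrix.nonsing_inv_mul _ (isUnit_det_transpose _ hN),
            Matrix.one_mul]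
  have hS : (S' - M * N⁻¹)ᵀ = S' - M * N⁻¹ := by rw [Matrix.transpose_sub, hS', hsym]
  set c := upU (S' - M * N⁻¹) hS
  have hci : (c⁻¹).1 = fromBlocks 1 (-(S' - M * N⁻¹)) 0 1 := by
    have : c⁻¹ = upU (-(S' - M * N⁻¹)) (by rw [Matrix.transpose_neg, hS]) := by
      refine inv_eq_of_mul_eq_one_right (Subtype.ext ?_)
      simp [c, upU, fromBlocks_multiply, fromBlocks_one]
    rw [this]; rfl
  have hc : Covered h (c * g * c⁻¹) := by
    refine covered_of_corner h _ ?_
    have : (c * g * c⁻¹).1.toBlocks₁₁ = S' * N := by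
      rw [Submonoid.coe_mul, Submonoid.coe_mul, hci]
      nth_rw 1 [← fromBlocks_toBlocks g.1]
      simp only [c, upU, fromBlocks_multiply, Matrix.one_mul, Matrix.mul_one, Matrix.zero_mul,
        Matrix.mul_zero, add_zero, zero_add, toBlocks_fromBlocks₁₁]
      change M + (S' - M * N⁻¹) * N = S' * N
      rw [Matrix.sub_mul, Matrix.nonsing_inv_mul_cancel_right _ _ hN]
      abel
    rw [this]
    exact hprod
  simpa [mul_assoc] using hc.conj c⁻¹

end CfsgLib.KnownB.PSpFourSquare
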