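import Cfsg.Agent.Lib.Classical.SympSimple

/-!
Lagrangian planes of the four-dimensional symplectic space moved to a transversal plane.
-/

set_option autoImplicit false

namespace CfsgLib.KnownB.PSpFourSquare

open Matrix CfsgLib.Classical

variable {F : Type*} [Field F]

local notation "Sp4" => Matrix.symplecticGroup (Fin 2) F
local notation "V4" => (Fin 2 ⊕ Fin 2 → F)

/-- A vector by coordinates. -/
def vec4 (a b c d : F) : V4 := Sum.elim ![a, b] ![c, d]

theorem sbil_vec4 (a b c d a' b' c' d' : F) :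
    sbil (vec4 a b c d) (vec4 a' b' c' d') = c * a' + d * b' - a * c' - b * d' := by
  simp [sbil_apply, Fin.sum_univ_two, vec4]
  ring

theorem eq_vec4 (v : V4) :
    v = vec4 (v (.inl 0)) (v (.inl 1)) (v (.inr 0)) (v (.inr 1)) := by
  funext x
  rcases x with i | i <;> fin_cases i <;> rfl

theorem vec4_zero : (vec4 0 0 0 0 : V4) = 0 := by
  funext x
  rcases x with i | i <;> fin_cases i <;> rfl

theorem smul_vec4 (s a b c d : F) : s • (vec4 a b c d : V4) = vec4 (s * a) (s * b) (s * c) (s * d) := by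
  funext x
  rcases x with i | i <;> fin_cases i <;> rfl

theorem add_vec4 (a b c d a' b' c' d' : F) :
    (vec4 a b c d : V4) + vec4 a' b' c' d' = vec4 (a + a') (b + b') (c + c') (d + d') := by
  funext x
  rcases x with i | i <;> fin_cases i <;> rfl

theorem mulVec_vec4 (A : Matrix (Fin 2 ⊕ Fin 2) (Fin 2 ⊕ Fin 2) F) (a b c d : F) :
    A *ᵥ vec4 a b c d = fun x =>
      A x (.inl 0) * a + A x (.inl 1) * b + A x (.inr 0) * c + A x (.inr 1) * d := by
  funext x
  simp [Matrix.mulVec, dotProduct, Fintype.sum_sum_type, Fin.sum_univ_two, vec4]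
  ring

/-- A symplectic frame comes from an element of the group. -/
theorem exists_frame {u v u' v' : V4} (h1 : sbil u' u = 1) (h2 : sbil v' v = 1)
    (h3 : sbil u v = 0) (h4 : sbil u v' = 0) (h5 : sbil u' v = 0) (h6 : sbil u' v' = 0) :
    ∃ h : Sp4, ∀ a b c d : F, h.1 *ᵥ vec4 a b c d = a • u + b • v + c • u' + d • v' := by
  let A : Matrix (Fin 2 ⊕ Fin 2) (Fin 2 ⊕ Fin 2) F :=
    Matrix.of fun x j => Sum.elim ![u, v] ![u', v'] j x
  have hA : ∀ a b c d : F, A *ᵥ vec4 a b c d = a • u + b • v + c • u' + d • v' := by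
    intro a b c d
    rw [mulVec_vec4]
    funext x
    simp [A]
    ring
  have hmem : A ∈ Matrix.symplecticGroup (Fin 2) F := by
    refine mem_symplecticGroup_iff_sbil.2 fun x y => ?_
    rw [eq_vec4 x, eq_vec4 y, hA, hA, sbil_vec4]
    simp only [sbil_add_left, sbil_add_right, sbil_smul_left, sbil_smul_right, sbil_self,
      sbil_swap u' u, sbil_swap v' v, sbil_swap u v, sbil_swap u v', sbil_swap u' v,
      sbil_swap u' v', h1, h2, h3, h4, h5, h6]
    ring
  exact ⟨⟨A, hmem⟩, hA⟩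

theorem exists_frame_of_pair {u v : V4} (hu : u ≠ 0) (hv : v ≠ 0) (hvu : ∀ c : F, v ≠ c • u)
    (huv : ∀ c : F, u ≠ c • v) (h : sbil u v = 0) :
    ∃ h' : Sp4, ∀ a b : F, h'.1 *ᵥ vec4 a b 0 0 = a • u + b • v := by
  obtain ⟨z, hz1, hz2⟩ := exists_sbil_zero_one hv huv
  obtain ⟨z', hz1', hz2'⟩ := exists_sbil_zero_one hu hvu
  obtain ⟨g, hg⟩ := exists_frame (u := u) (v := v) (u' := -z)
    (v' := -z' + sbil (-z) z' • u)
    (by rw [← neg_one_smul F z, sbil_smul_left, sbil_swap u z, hz2]; ring)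
    (by
      rw [sbil_add_left, sbil_smul_left, h, ← neg_one_smul F z', sbil_smul_left, sbil_swap v z',
        hz2']
      ring)
    h
    (by
      rw [sbil_add_right, sbil_smul_right, sbil_self, ← neg_one_smul F z', sbil_smul_right, hz1']
      ring)
    (by rw [← neg_one_smul F z, sbil_smul_left, sbil_swap v z, hz1]; ring)
    (by
      rw [sbil_add_right, sbil_smul_right, ← neg_one_smul F z', sbil_smul_right,
        ← neg_one_smul F z, sbil_smul_left, sbil_smul_left, sbil_swap u z, hz2]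
      ring)
  exact ⟨g, fun a b => by simp [hg]⟩

/-- The determinant of the form `sbil (g x) y` on a pair. -/
def pairDet (g : Sp4) (u v : V4) : F :=
  sbil (g.1 *ᵥ u) u * sbil (g.1 *ᵥ v) v - sbil (g.1 *ᵥ u) v * sbil (g.1 *ᵥ v) u

/-- Some orthogonal pair is moved transversally. -/
def HasGood (g : Sp4) : Prop := ∃ u v : V4, sbil u v = 0 ∧ pairDet g u v ≠ 0

theorem pair_indep {g : Sp4} {u v : V4} (h : pairDet g u v ≠ 0) :
    u ≠ 0 ∧ v ≠ 0 ∧ (∀ c : F, v ≠ c • u) ∧ ∀ c : F, u ≠ c • v := by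
  refine ⟨?_, ?_, ?_, ?_⟩
  · rintro rfl; exact h (by simp [pairDet])
  · rintro rfl; exact h (by simp [pairDet])
  · rintro c rfl; exact h (by simp [pairDet, mulVec_smul, sbil_smul_left, sbil_smul_right]; ring)
  · rintro c rfl; exact h (by simp [pairDet, mulVec_smul, sbil_smul_left, sbil_smul_right]; ring)

theorem HasGood.of_conj {g h : Sp4} (hk : HasGood (h⁻¹ * g * h)) : HasGood g := by
  obtain ⟨u, v, huv, hne⟩ := hk
  have key : ∀ x y : V4, sbil (g.1 *ᵥ (h.1 *ᵥ x)) (h.1 *ᵥ y) = sbil ((h⁻¹ * g * h).1 *ᵥ x) y := by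
    intro x y
    rw [← sbil_mulVec h ((h⁻¹ * g * h).1 *ᵥ x) y, ← sp_mul_mulVec, ← sp_mul_mulVec]
    congr 2
    simp [mul_assoc]
  refine ⟨h.1 *ᵥ u, h.1 *ᵥ v, by rw [sbil_mulVec, huv], ?_⟩
  simpa only [pairDet, key] using hne

theorem mem_plane {u v z : V4} (hu : u ≠ 0) (hv : v ≠ 0) (hvu : ∀ c : F, v ≠ c • u)
    (huv : ∀ c : F, u ≠ c • v) (h : sbil u v = 0) (h1 : sbil z u = 0) (h2 : sbil z v = 0) :
    ∃ a b : F, z = a • u + b • v := by
  obtain ⟨g, hg⟩ := exists_frame_of_pair hu hv hvu huv h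
  refine ⟨((g⁻¹).1 *ᵥ z) (.inl 0), ((g⁻¹).1 *ᵥ z) (.inl 1), ?_⟩
  have hw := sp_mulVec_inv g z
  generalize (g⁻¹).1 *ᵥ z = w at hw
  have e1 : sbil w (vec4 1 0 0 0) = 0 := by
    rw [← sbil_mulVec g, hw, hg]; simpa using h1
  have e2 : sbil w (vec4 0 1 0 0) = 0 := by
    rw [← sbil_mulVec g, hw, hg]; simpa using h2
  rw [eq_vec4 w, sbil_vec4] at e1 e2
  simp at e1 e2
  rw [← hw, ← hg]
  congr 1
  conv_lhs => rw [eq_vec4 w, e1, e2]

theorem exists_orth_three (z₁ z₂ z₃ : V4) :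
    ∃ u : V4, u ≠ 0 ∧ sbil z₁ u = 0 ∧ sbil z₂ u = 0 ∧ sbil z₃ u = 0 := by
  let φ : V4 →ₗ[F] (Fin 3 → F) :=
    { toFun := fun x i => sbil (![z₁, z₂, z₃] i) x
      map_add' := fun x y => funext fun i => sbil_add_right _ x y
      map_smul' := fun c x => funext fun i => sbil_smul_right c _ x }
  obtain ⟨u, hu, hne⟩ := Submodule.exists_mem_ne_zero_of_ne_bot
    (LinearMap.ker_ne_bot_of_finrank_lt (f := φ) (by simp))
  rw [LinearMap.mem_ker] at hu
  exact ⟨u, hne, congrFun hu 0, congrFun hu 1, congrFun hu 2⟩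

theorem exists_eigen {g : Sp4} (hg : ¬ HasGood g) :
    ∃ u : V4, u ≠ 0 ∧ ∃ α : F, g.1 *ᵥ u = α • u := by
  by_cases hQ : ∀ v : V4, sbil (g.1 *ᵥ v) v = 0
  · have hsymm : ∀ x y : V4, sbil (g.1 *ᵥ x) y = sbil x (g.1 *ᵥ y) := by
      intro x y
      have := hQ (x + y)
      rw [mulVec_add, sbil_add_left, sbil_add_right, sbil_add_right, hQ, hQ] at this
      rw [sbil_swap (g.1 *ᵥ y) x]
      linear_combination this
    have hinv : ∀ y : V4, g.1 *ᵥ (g.1 *ᵥ y) = y := by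
      intro y
      refine sbil_ext fun x => ?_
      rw [sbil_swap x (g.1 *ᵥ (g.1 *ᵥ y)), sbil_swap x y, ← hsymm, sbil_mulVec]
    have hne : (vec4 1 0 0 0 : V4) ≠ 0 := fun e => by
      simpa [vec4] using congrFun e (Sum.inl 0)
    by_cases h : g.1 *ᵥ vec4 1 0 0 0 + vec4 1 0 0 0 = 0
    · exact ⟨_, hne, -1, by rw [neg_one_smul]; exact eq_neg_of_add_eq_zero_left h⟩
    · exact ⟨_, h, 1, by rw [mulVec_add, hinv, one_smul, add_comm]⟩
  push Not at hQ
  obtain ⟨v, hv⟩ := hQ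
  obtain ⟨u, hu, e1, e2, e3⟩ := exists_orth_three v ((g⁻¹).1 *ᵥ v) (g.1 *ᵥ v)
  have huv : sbil u v = 0 := by rw [sbil_swap v u, e1, neg_zero]
  have hguv : sbil (g.1 *ᵥ u) v = 0 := by
    rw [← sp_mulVec_inv g v, sbil_mulVec, sbil_swap, e2, neg_zero]
  have hguu : sbil (g.1 *ᵥ u) u = 0 := by
    by_contra h
    exact hg ⟨u, v, huv, by simp [pairDet, hguv, hv, h]⟩
  have hginv : sbil ((g⁻¹).1 *ᵥ u) u = 0 := by
    rw [← sbil_mulVec g, sp_mulVec_inv, sbil_swap, hguu, neg_zero]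
  have hginv2 : sbil ((g⁻¹).1 *ᵥ u) v = 0 := by
    rw [← sbil_mulVec g, sp_mulVec_inv, sbil_swap, e3, neg_zero]
  have hv0 : v ≠ 0 := fun e => hv (by simp [e])
  have hvu : ∀ c : F, v ≠ c • u := fun c e => hv (by
    nth_rw 1 [e]
    rw [mulVec_smul, sbil_smul_left, hguv, mul_zero])
  have huv' : ∀ c : F, u ≠ c • v := fun c e => by
    rcases eq_or_ne c 0 with rfl | hc
    · exact hu (by simpa using e)
    · exact hvu c⁻¹ (by rw [e, smul_smul, inv_mul_cancel₀ hc, one_smul])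
  obtain ⟨α, β, hαβ⟩ := mem_plane hu hv0 hvu huv' huv hguu hguv
  obtain ⟨α', β', hαβ'⟩ := mem_plane hu hv0 hvu huv' huv hginv hginv2
  refine ⟨u, hu, α, ?_⟩
  by_contra hne
  have hβ : β ≠ 0 := fun e => hne (by simp [hαβ, e])
  have hu' : u = α' • (g.1 *ᵥ u) + β' • (g.1 *ᵥ v) := by
    nth_rw 1 [← sp_mulVec_inv g u]
    rw [hαβ', mulVec_add, mulVec_smul, mulVec_smul]
  have hB : sbil u v = β' * sbil (g.1 *ᵥ v) v := by
    nth_rw 1 [hu']
    rw [sbil_add_left, sbil_smul_left, sbil_smul_left, hguv, mul_zero, zero_add]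
  have hβ' : β' = 0 := by
    rw [huv] at hB
    exact (mul_eq_zero.1 hB.symm).resolve_right hv
  rw [hβ', zero_smul, add_zero, hαβ] at hu'
  refine hvu ((1 - α' * α) / (α' * β)) ?_
  have hα' : α' ≠ 0 := fun e => hu (by simpa [e] using hu')
  funext x
  have := congrFun hu' x
  simp only [Pi.smul_apply, Pi.add_apply, smul_eq_mul] at this ⊢
  field_simp
  linear_combination -this

/-- The transvection shape up to sign. -/
def IsSignedTransvection (g : Sp4) : Prop :=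
  ∃ (a : F) (w : V4), a ≠ 0 ∧ w ≠ 0 ∧ (g.1 = (stv a w).1 ∨ g.1 = -(stv a w).1)

theorem IsSignedTransvection.of_conj {g h : Sp4} (hk : IsSignedTransvection (h⁻¹ * g * h)) :
    IsSignedTransvection g := by
  obtain ⟨a, w, ha, hw, e⟩ := hk
  refine ⟨a, h.1 *ᵥ w, ha, sp_mulVec_ne_zero h hw, ?_⟩
  have hg : g.1 = (h * (h⁻¹ * g * h) * h⁻¹).1 := by simp [mul_assoc]
  rw [← stv_conj, hg]
  change h.1 * (h⁻¹ * g * h).1 * (h⁻¹).1 = h.1 * (stv a w).1 * (h⁻¹).1 ∨
    h.1 * (h⁻¹ * g * h).1 * (h⁻¹).1 = -(h.1 * (stv a w).1 * (h⁻¹).1)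
  rcases e with e | e
  · left; rw [e]
  · right; rw [e, Matrix.mul_neg, Matrix.neg_mul]

theorem eq_stv_or {g : Sp4} (s : F) (hs : s = 1 ∨ s = -1) (a : F) (w : V4)
    (h : ∀ x : V4, g.1 *ᵥ x = s • (x + (a * sbil w x) • w)) :
    (g.1 = 1 ∨ g.1 = -1) ∨ IsSignedTransvection g := by
  have e : g.1 = s • (stv a w).1 := Matrix.ext_iff_mulVec.2 fun x => by
    rw [h, Matrix.smul_mulVec, stv_mulVec]
  by_cases hz : a = 0 ∨ w = 0
  · refine Or.inl ?_
    have h1 : (stv a w).1 = 1 := Matrix.ext_iff_mulVec.2 fun x => by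
      rcases hz with rfl | rfl <;> simp [-stv_zero]
    rcases hs with rfl | rfl <;> simp [e, h1]
  · rw [not_or] at hz
    refine Or.inr ⟨a, w, hz.1, hz.2, ?_⟩
    rcases hs with rfl | rfl <;> simp [e]

theorem exists_avoid_two [Fintype F] (h3 : 3 ≤ Fintype.card F) (x y : F) :
    ∃ η : F, η ≠ x ∧ η ≠ y := by
  classical
  obtain ⟨η, -, hη⟩ := Finset.exists_mem_notMem_of_card_lt_card
    (s := ({x, y} : Finset F)) (t := Finset.univ)
    (lt_of_le_of_lt Finset.card_le_two (by rw [Finset.card_univ]; omega))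
  simp only [Finset.mem_insert, Finset.mem_singleton, not_or] at hη
  exact ⟨η, hη⟩

/-- Coordinates of an element fixing the first basis line. -/
structure Para (k : Sp4) (α α' l₁ l₂ c m₁ m₂ p r p' r' : F) : Prop where
  apply : ∀ a b e d : F, k.1 *ᵥ vec4 a b e d =
    vec4 (α * a + l₁ * b + c * e + l₂ * d) (p * b + m₁ * e + r * d) (α' * e)
      (p' * b + m₂ * e + r' * d)
  inv : α * α' = 1
  det : p * r' - p' * r = 1
  rel₁ : p' * m₁ - l₁ * α' - p * m₂ = 0
  rel₂ : r' * m₁ - l₂ * α' - r * m₂ = 0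

theorem exists_para {k : Sp4} {α : F} (h : k.1 *ᵥ vec4 1 0 0 0 = α • vec4 1 0 0 0) :
    ∃ α' l₁ l₂ c m₁ m₂ p r p' r' : F, Para k α α' l₁ l₂ c m₁ m₂ p r p' r' := by
  refine ⟨k.1 (.inr 0) (.inr 0), k.1 (.inl 0) (.inl 1), k.1 (.inl 0) (.inr 1),
    k.1 (.inl 0) (.inr 0), k.1 (.inl 1) (.inr 0), k.1 (.inr 1) (.inr 0), k.1 (.inl 1) (.inl 1),
    k.1 (.inl 1) (.inr 1), k.1 (.inr 1) (.inl 1), k.1 (.inr 1) (.inr 1), ?_⟩
  have h' := h
  rw [mulVec_vec4] at h'
  have c0 := congrFun h' (.inl 0)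
  have c1 := congrFun h' (.inl 1)
  have c2 := congrFun h' (.inr 0)
  have c3 := congrFun h' (.inr 1)
  simp [vec4] at c0 c1 c2 c3
  have key : ∀ j : Fin 2 ⊕ Fin 2, α * k.1 (.inr 0) j = Pi.single (M := fun _ => F) j 1 (.inr 0) := by
    intro j
    have h1 : sbil (k.1 *ᵥ Pi.single j 1) (k.1 *ᵥ vec4 1 0 0 0) =
        sbil (Pi.single j 1 : V4) (vec4 1 0 0 0) := sbil_mulVec k _ _
    rw [h, sbil_smul_right] at h1
    simpa [sbil_apply, Fin.sum_univ_two, vec4, Matrix.mulVec_single_one] using h1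
  have hα : α * k.1 (.inr 0) (.inr 0) = 1 := by simpa using key (.inr 0)
  have hα0 : α ≠ 0 := left_ne_zero_of_mul_eq_one hα
  have k1 : k.1 (.inr 0) (.inl 1) = 0 := by
    have := key (.inl 1); simpa [hα0] using this
  have k3 : k.1 (.inr 0) (.inr 1) = 0 := by
    have := key (.inr 1); simpa [hα0] using this
  have happ : ∀ a b e d : F, k.1 *ᵥ vec4 a b e d = vec4 (α * a + k.1 (.inl 0) (.inl 1) * b +
      k.1 (.inl 0) (.inr 0) * e + k.1 (.inl 0) (.inr 1) * d)
      (k.1 (.inl 1) (.inl 1) * b + k.1 (.inl 1) (.inr 0) * e + k.1 (.inl 1) (.inr 1) * d)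
      (k.1 (.inr 0) (.inr 0) * e)
      (k.1 (.inr 1) (.inl 1) * b + k.1 (.inr 1) (.inr 0) * e + k.1 (.inr 1) (.inr 1) * d) := by
    intro a b e d
    rw [mulVec_vec4]
    funext x
    rcases x with i | i <;> fin_cases i <;> simp [vec4, c0, c1, c2, c3, k1, k3]
  have rel : ∀ a b e d a' b' e' d' : F,
      sbil (k.1 *ᵥ vec4 a b e d) (k.1 *ᵥ vec4 a' b' e' d') = sbil (vec4 a b e d) (vec4 a' b' e' d') :=
    fun _ _ _ _ _ _ _ _ => sbil_mulVec k _ _
  refine ⟨happ, hα, ?_, ?_, ?_⟩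
  · have := rel 0 1 0 0 0 0 0 1
    rw [happ, happ, sbil_vec4, sbil_vec4] at this
    linear_combination -this
  · have := rel 0 1 0 0 0 0 1 0
    rw [happ, happ, sbil_vec4, sbil_vec4] at this
    linear_combination this
  · have := rel 0 0 0 1 0 0 1 0
    rw [happ, happ, sbil_vec4, sbil_vec4] at this
    linear_combination this

variable [Fintype F] {k : Matrix.symplecticGroup (Fin 2) F} {α α' l₁ l₂ c m₁ m₂ p r p' r' : F}

theorem good_of_ne (hk : Para k α α' l₁ l₂ c m₁ m₂ p r p' r') (h3 : 3 ≤ Fintype.card F)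
    (hp : p' ≠ 0) (hα : α ≠ α') : HasGood k := by
  have hne : p' * (α' - α) ≠ 0 := mul_ne_zero hp (sub_ne_zero.2 (Ne.symm hα))
  obtain ⟨t, ht, -⟩ := exists_avoid_two h3 ((p' * c - l₁ * m₂) / (p' * (α' - α))) 0
  refine ⟨vec4 0 1 0 0, vec4 t 0 1 0, by rw [sbil_vec4]; ring, ?_⟩
  simp only [pairDet, hk.apply, sbil_vec4]
  intro e
  refine ht ?_
  rw [eq_div_iff hne]
  linear_combination e

theorem good_or_of_unit (hk : Para k 1 1 l₁ l₂ c m₁ m₂ p r p' r') (h3 : 3 ≤ Fintype.card F)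
    (hp : p' ≠ 0) : HasGood k ∨ ((k.1 = 1 ∨ k.1 = -1) ∨ IsSignedTransvection k) := by
  classical
  by_cases hg : HasGood k
  · exact Or.inl hg
  refine Or.inr ?_
  have hl₁ : l₁ = p' * m₁ - p * m₂ := by linear_combination -hk.rel₁
  have hl₂ : l₂ = r' * m₁ - r * m₂ := by linear_combination -hk.rel₂
  have eη : ∀ η : F, (2 - (p + r')) * (η * η) + (-(p' * (l₂ + m₁)) - (1 - p) * m₂ + l₁ * (r' - 1)) * η
      + (l₁ * m₂ - p' * c) = 0 := by
    intro η
    by_contra hne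
    refine hg ⟨vec4 (-η) 1 0 0, vec4 0 0 1 η, by rw [sbil_vec4]; ring, fun e => hne ?_⟩
    simp only [pairDet, hk.apply, sbil_vec4] at e
    linear_combination e - η * η * hk.det
  have e2 : l₂ * m₁ = r * c * 1 ∧ c * (r' - p + p' - r) = (l₁ + l₂) * (m₂ - m₁) := by
    constructor
    · by_contra hne
      refine hg ⟨vec4 0 0 0 1, vec4 0 0 1 0, by rw [sbil_vec4]; ring, fun e => hne ?_⟩
      simp only [pairDet, hk.apply, sbil_vec4] at e
      linear_combination -e
    · by_contra hne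
      refine hg ⟨vec4 0 1 0 1, vec4 0 0 1 0, by rw [sbil_vec4]; ring, fun e => hne ?_⟩
      simp only [pairDet, hk.apply, sbil_vec4] at e
      linear_combination -e
  have htr : p + r' = 2 := by
    let P : Polynomial F := Polynomial.C (2 - (p + r')) * Polynomial.X ^ 2 +
      Polynomial.C (-(p' * (l₂ + m₁)) - (1 - p) * m₂ + l₁ * (r' - 1)) * Polynomial.X +
      Polynomial.C (l₁ * m₂ - p' * c)
    have hP : P = 0 := by
      by_contra hP
      obtain ⟨s, -, hs⟩ := Finset.exists_mem_notMem_of_card_lt_card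
        (s := P.roots.toFinset) (t := Finset.univ)
        (lt_of_le_of_lt ((Multiset.toFinset_card_le _).trans ((Polynomial.card_roots' P).trans
          Polynomial.natDegree_quadratic_le)) (by rw [Finset.card_univ]; omega))
      rw [Multiset.mem_toFinset, Polynomial.mem_roots hP] at hs
      refine hs ?_
      simp only [Polynomial.IsRoot.def, P, Polynomial.eval_add, Polynomial.eval_mul,
        Polynomial.eval_C, Polynomial.eval_pow, Polynomial.eval_X]
      linear_combination eη s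
    have := congrArg (·.coeff 2) hP
    simp only [P, Polynomial.coeff_add, Polynomial.coeff_C_mul, Polynomial.coeff_X_pow,
      Polynomial.coeff_X, Polynomial.coeff_C, Polynomial.coeff_zero] at this
    norm_num at this
    linear_combination -this
  have hc0 : p' * c = l₁ * m₂ := by linear_combination -eη 0
  have hlin : 2 * (l₁ + m₂) = 0 := by
    linear_combination -(eη 1) - htr - hc0 + (r' + 1) * hl₁ - p' * hl₂ - m₂ * hk.det
  have hsum : l₁ + m₂ = 0 := by
    rcases mul_eq_zero.1 hlin with h2 | h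
    · have : (l₁ - m₂) * (l₁ + m₂) = 0 := by
        linear_combination p' * e2.2 - (r' - p + p') * hc0 - p' * e2.1 - (r' * m₂ - l₁) * hl₁ +
          p' * m₂ * hl₂ + m₂ ^ 2 * hk.det
      rcases mul_eq_zero.1 this with h | h
      · linear_combination h + m₂ * h2
      · exact h
    · exact h
  refine eq_stv_or 1 (Or.inl rfl) p'⁻¹ (vec4 l₁ (p - 1) 0 p') fun x => ?_
  rw [eq_vec4 x, hk.apply, sbil_vec4, one_smul, smul_vec4, add_vec4]
  congr 1
  · field_simp
    linear_combination x (.inr 1) * (p' * hl₂) + x (.inr 0) * hc0 + x (.inr 0) * l₁ * hsum +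
      x (.inr 1) * (hsum + l₁ * htr + m₂ * hk.det - r' * hl₁)
  · field_simp
    linear_combination x (.inr 0) * p * hsum - x (.inr 0) * hl₁ +
      x (.inr 1) * (p * htr - hk.det)
  · ring
  · field_simp
    linear_combination x (.inr 0) * hsum + x (.inr 1) * htr

end CfsgLib.KnownB.PSpFourSquare
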