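import Cfsg.Agent.Lib.KnownB.PSpFourSquare.Block
import Cfsg.Agent.Lib.KnownB.PSpFourSquare.Pair

/-!
The square of the Siegel Levi class covers the projective symplectic group of dimension four.
-/

set_option autoImplicit false

namespace CfsgLib.KnownB.PSpFourSquare

open Matrix CfsgLib.Classical

variable {F : Type*} [Field F]

local notation "Sp4" => Matrix.symplecticGroup (Fin 2) F
local notation "V4" => (Fin 2 ⊕ Fin 2 → F)

/-- The negative of an element. -/
def negSp (g : Sp4) : Sp4 := ⟨-g.1, SymplecticGroup.neg_mem g.2⟩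

theorem HasGood.negSp {g : Sp4} (h : HasGood (PSpFourSquare.negSp g)) : HasGood g := by
  obtain ⟨u, v, huv, hne⟩ := h
  refine ⟨u, v, huv, ?_⟩
  intro e
  apply hne
  simp only [pairDet, PSpFourSquare.negSp, neg_mulVec, ← neg_one_smul F (g.1 *ᵥ u),
    ← neg_one_smul F (g.1 *ᵥ v), sbil_smul_left]
  simp only [pairDet] at e
  linear_combination e

/-- The possible shapes. -/
def Shape (g : Sp4) : Prop := HasGood g ∨ ((g.1 = 1 ∨ g.1 = -1) ∨ IsSignedTransvection g)

theorem Shape.of_conj {g h : Sp4} (hk : Shape (h⁻¹ * g * h)) : Shape g := by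
  rcases hk with hk | hk | hk
  · exact Or.inl hk.of_conj
  · refine Or.inr (Or.inl ?_)
    have hg : g.1 = h.1 * (h⁻¹ * g * h).1 * (h⁻¹).1 := by
      change g.1 = (h * (h⁻¹ * g * h) * h⁻¹).1
      simp [mul_assoc]
    have h1 : h.1 * (h⁻¹).1 = 1 := by
      change (h * h⁻¹).1 = 1
      rw [mul_inv_cancel]; rfl
    rcases hk with e | e
    · left; rw [hg, e, Matrix.mul_one, h1]
    · right; rw [hg, e, Matrix.mul_neg, Matrix.mul_one, Matrix.neg_mul, h1]
  · exact Or.inr (Or.inr hk.of_conj)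

variable [Fintype F]

theorem shape_of_mid {k : Sp4} {α α' l₁ l₂ c m₁ m₂ p r p' r' : F}
    (hk : Para k α α' l₁ l₂ c m₁ m₂ p r p' r') (h3 : 3 ≤ Fintype.card F) (hp : p' ≠ 0) :
    Shape k := by
  by_cases hα : α = α'
  · subst hα
    rcases mul_self_eq_one_iff.1 hk.inv with rfl | rfl
    · exact good_or_of_unit hk h3 hp
    · have hk' : Para (negSp k) 1 1 (-l₁) (-l₂) (-c) (-m₁) (-m₂) (-p) (-r) (-p') (-r') :=
        { apply := fun a b e d => by
            rw [negSp, neg_mulVec, hk.apply, ← neg_one_smul F, smul_vec4]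
            congr 1 <;> ring
          inv := one_mul 1
          det := by linear_combination hk.det
          rel₁ := by linear_combination hk.rel₁
          rel₂ := by linear_combination hk.rel₂ }
      rcases good_or_of_unit hk' h3 (neg_ne_zero.2 hp) with h | h | ⟨a, w, ha, hw, e⟩
      · exact Or.inl h.negSp
      · refine Or.inr (Or.inl ?_)
        rcases h with h | h
        · exact Or.inr (neg_eq_iff_eq_neg.1 h)
        · exact Or.inl (neg_injective h)
      · refine Or.inr (Or.inr ⟨a, w, ha, hw, ?_⟩)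
        rcases e with e | e
        · exact Or.inr (neg_eq_iff_eq_neg.1 e)
        · exact Or.inl (neg_injective e)
  · exact Or.inl (good_of_ne hk h3 hp hα)

theorem shape_of_scalar {k : Sp4} {α α' l₁ l₂ c m₁ m₂ p : F}
    (hk : Para k α α' l₁ l₂ c m₁ m₂ p 0 0 p) (h3 : 3 ≤ Fintype.card F) : Shape k := by
  have hpp : p * p = 1 := by linear_combination hk.det
  by_cases hα : α = p
  · subst hα
    have hα' : α' = α := by linear_combination α * hk.inv - α' * hpp
    subst hα'
    have hα0 : α' ≠ 0 := left_ne_zero_of_mul_eq_one hpp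
    have hl₁ : l₁ = -m₂ := mul_left_cancel₀ hα0 (by linear_combination -hk.rel₁)
    have hl₂ : l₂ = m₁ := mul_left_cancel₀ hα0 (by linear_combination -hk.rel₂)
    by_cases hm₂ : m₂ = 0
    · by_cases hm₁ : m₁ = 0
      · refine Or.inr (eq_stv_or α' (mul_self_eq_one_iff.1 hpp) (-(α' * c)) (vec4 1 0 0 0) fun x => ?_)
        rw [eq_vec4 x, hk.apply, sbil_vec4, smul_vec4, add_vec4, smul_vec4]
        congr 1 <;> simp [hl₁, hl₂, hm₁, hm₂]
        linear_combination -(x (.inr 0) * c) * hpp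
      · refine Or.inl ⟨vec4 0 0 0 1, vec4 0 0 1 0, by rw [sbil_vec4]; ring, fun e => hm₁ ?_⟩
        simp only [pairDet, hk.apply, sbil_vec4] at e
        exact mul_self_eq_zero.1 (by linear_combination -e - m₁ * hl₂)
    · refine Or.inl ⟨vec4 0 1 0 0, vec4 0 0 1 0, by rw [sbil_vec4]; ring, fun e => hm₂ ?_⟩
      simp only [pairDet, hk.apply, sbil_vec4] at e
      exact mul_self_eq_zero.1 (by linear_combination -e + m₂ * hl₁)
  · have hα' : p - α' ≠ 0 := fun e => hα (by linear_combination -α * hpp + α * p * e + p * hk.inv)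
    obtain ⟨η, h1, h2⟩ := exists_avoid_two h3 (l₁ / (α - p)) (-m₂ / (p - α'))
    refine Or.inl ⟨vec4 (-η) 1 0 0, vec4 0 0 1 η, by rw [sbil_vec4]; ring, fun e => ?_⟩
    simp only [pairDet, hk.apply, sbil_vec4] at e
    have : (η * (α - p) - l₁) * (η * (p - α') + m₂) = 0 := by linear_combination -e
    rcases mul_eq_zero.1 this with e | e
    · exact h1 (eq_div_iff (sub_ne_zero.2 hα) |>.2 (by linear_combination e))
    · exact h2 (eq_div_iff hα' |>.2 (by linear_combination e))

theorem shape_of_eigen {k : Sp4} {α : F} (h : k.1 *ᵥ vec4 1 0 0 0 = α • vec4 1 0 0 0)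
    (h3 : 3 ≤ Fintype.card F) : Shape k := by
  obtain ⟨α', l₁, l₂, c, m₁, m₂, p, r, p', r', hk⟩ := exists_para h
  by_cases hp : p' = 0
  swap
  · exact shape_of_mid hk h3 hp
  subst hp
  have key : ∀ v v' : V4, sbil v' v = 1 → sbil (vec4 1 0 0 0) v = 0 → sbil (vec4 1 0 0 0) v' = 0 →
      sbil (vec4 0 0 1 0) v = 0 → sbil (vec4 0 0 1 0) v' = 0 → sbil (k.1 *ᵥ v) v ≠ 0 → Shape k := by
    intro v v' e1 e2 e3 e4 e5 hne
    obtain ⟨g, hg⟩ := exists_frame (u := vec4 1 0 0 0) (v := v) (u' := vec4 0 0 1 0) (v' := v')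
      (by rw [sbil_vec4]; ring) e1 e2 e3 e4 e5
    have hu : g.1 *ᵥ vec4 1 0 0 0 = vec4 1 0 0 0 := by simp [hg]
    have hv : g.1 *ᵥ vec4 0 1 0 0 = v := by simp [hg]
    have heig : (g⁻¹ * k * g).1 *ᵥ vec4 1 0 0 0 = α • vec4 1 0 0 0 := by
      rw [sp_mul_mulVec, sp_mul_mulVec, hu, h, mulVec_smul]
      congr 1
      nth_rw 1 [← hu]
      exact sp_inv_mulVec g _
    obtain ⟨a', a1, a2, a3, a4, a5, a6, a7, q, a8, hk'⟩ := exists_para heig
    refine Shape.of_conj (h := g) (shape_of_mid hk' h3 fun hq => hne ?_)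
    have e : sbil ((g⁻¹ * k * g).1 *ᵥ vec4 0 1 0 0) (vec4 0 1 0 0) = 0 := by
      rw [hk'.apply, sbil_vec4, hq]; ring
    rw [← sbil_mulVec g, sp_mul_mulVec, sp_mul_mulVec, hv, sp_mulVec_inv] at e
    exact e
  by_cases hr : r = 0
  · subst hr
    by_cases hpr : r' = p
    · subst hpr
      exact shape_of_scalar hk h3
    · refine key (vec4 0 1 0 1) (vec4 0 0 0 1) ?_ ?_ ?_ ?_ ?_ ?_
      all_goals simp only [hk.apply, sbil_vec4]
      any_goals ring
      exact fun e => hpr (by linear_combination e)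
  · refine key (vec4 0 0 0 1) (vec4 0 (-1) 0 0) ?_ ?_ ?_ ?_ ?_ ?_
    all_goals simp only [hk.apply, sbil_vec4]
    any_goals ring
    exact fun e => hr (by linear_combination -e)

theorem shape_all (g : Sp4) (h3 : 3 ≤ Fintype.card F) : Shape g := by
  by_cases hg : HasGood g
  · exact Or.inl hg
  obtain ⟨u, hu, α, hα⟩ := exists_eigen hg
  obtain ⟨h, hh⟩ := sp_transitive (u := (vec4 1 0 0 0 : V4))
    (fun e => by simpa [vec4] using congrFun e (Sum.inl 0)) hu
  refine Shape.of_conj (h := h) (shape_of_eigen (α := α) ?_ h3)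
  rw [sp_mul_mulVec, sp_mul_mulVec, hh, hα, mulVec_smul, ← hh, sp_inv_mulVec]

variable {t d : F}

theorem covered_of_good (h3 : 3 ≤ Fintype.card F) (h : GoodPair t d) {g : Sp4} (hg : HasGood g) :
    Covered h g := by
  obtain ⟨u, v, huv, hne⟩ := hg
  obtain ⟨hu, hv, hvu, huv'⟩ := pair_indep hne
  obtain ⟨c, hc⟩ := exists_frame_of_pair hu hv hvu huv' huv
  have hk : Covered h (c⁻¹ * g * c) := by
    refine covered_of_lower h3 h _ ?_
    have key : ∀ j i : Fin 2, (c⁻¹ * g * c).1.toBlocks₂₁ i j =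
        sbil (g.1 *ᵥ (c.1 *ᵥ Pi.single (.inl j) 1)) (c.1 *ᵥ Pi.single (.inl i) 1) := by
      intro j i
      rw [← sbil_mulVec c⁻¹, sp_inv_mulVec, ← sp_mul_mulVec, ← sp_mul_mulVec, sbil_single_inl,
        mul_one, Matrix.mulVec_single_one]
      simp [toBlocks₂₁, mul_assoc]
    have h0 : (Pi.single (Sum.inl 0) 1 : V4) = vec4 1 0 0 0 := by
      funext x; rcases x with i | i <;> fin_cases i <;> simp [vec4]
    have h1 : (Pi.single (Sum.inl 1) 1 : V4) = vec4 0 1 0 0 := by
      funext x; rcases x with i | i <;> fin_cases i <;> simp [vec4]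
    rw [isUnit_iff_ne_zero, Matrix.det_fin_two, key, key, key, key, h0, h1, hc, hc]
    simp only [one_smul, zero_smul, add_zero, zero_add]
    intro e
    exact hne (by simp only [pairDet]; linear_combination e)
  simpa [mul_assoc] using hk.conj c

theorem covered_stv (h : GoodPair t d) (a : F) (w : V4) (ha : a ≠ 0) (hw : w ≠ 0) :
    Covered h (stv a w) := by
  have aux : ∀ v0 : V4, v0 ≠ 0 → IsTwoProd t d (stv a v0).1.toBlocks₁₁ → Covered h (stv a w) := by
    intro v0 hv0 hp
    obtain ⟨g, hg⟩ := sp_transitive hv0 hw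
    simpa [stv_conj, hg] using (covered_of_corner h (stv a v0) hp).conj g
  have hblock : ∀ v0 : V4, ∀ i j : Fin 2, (stv a v0).1.toBlocks₁₁ i j =
      (if i = j then 1 else 0) + a * v0 (.inr j) * v0 (.inl i) := by
    intro v0 i j
    have := congrFun (stv_mulVec a v0 (Pi.single (.inl j) 1)) (.inl i)
    rw [Matrix.mulVec_single_one] at this
    simpa [toBlocks₁₁, sbil_single_inl, Pi.single_apply, mul_assoc] using this
  by_cases hd : d * d = 1
  · have hd1 : d = -1 := (mul_self_eq_one_iff.1 hd).resolve_left h.d_ne_one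
    have h2 : (2 : F) ≠ 0 := fun e => h.d_ne_one (by linear_combination hd1 - e)
    refine aux (vec4 0 1 1 0) (fun e => by simpa [vec4] using congrFun e (Sum.inl 1))
      (isTwoProd_of_trace h _ ?_ ?_ ?_)
    · rintro ⟨c, hc⟩
      have := congrFun (congrFun hc 1) 0
      simp [hblock, vec4] at this
      exact ha this
    · simp [Matrix.det_fin_two, hblock, vec4, hd]
    · intro e
      simp [Matrix.trace_fin_two, hblock, vec4] at e
      subst hd1
      exact mul_ne_zero h2 h2 (by linear_combination e)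
  · refine aux (vec4 ((d * d - 1) / a) 0 1 0) (fun e => by simpa [vec4] using congrFun e (Sum.inr 0))
      (isTwoProd_of_trace h _ ?_ ?_ ?_)
    · rintro ⟨c, hc⟩
      have e1 := congrFun (congrFun hc 0) 0
      have e2 := congrFun (congrFun hc 1) 1
      simp [hblock, vec4] at e1 e2
      rw [← e2, mul_div_cancel₀ _ ha] at e1
      exact hd (by linear_combination e1)
    · simp [Matrix.det_fin_two, hblock, vec4]
      field_simp
      ring
    · intro e
      simp [Matrix.trace_fin_two, hblock, vec4] at e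
      rw [mul_div_cancel₀ _ ha] at e
      exact h.d_ne_one (sub_eq_zero.1 (mul_self_eq_zero.1 (by linear_combination e)))

theorem orderOf_base (p : ℕ) [Fact p.Prime] [CharP F p] (h : GoodPair t d) :
    ¬ p ∣ orderOf (base h) := by
  intro hp
  refine not_dvd_orderOf p h (comp t d) (by simp [comp, Matrix.trace_fin_two])
    (by simp [comp, Matrix.det_fin_two_of]) (hp.trans (orderOf_dvd_of_pow_eq_one ?_))
  have key : ∀ n, (base h ^ n).1 = fromBlocks (comp t d ^ n) 0 0 (((comp t d)ᵀ)⁻¹ ^ n) := by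
    intro n
    induction n with
    | zero => simp [fromBlocks_one]
    | succ n ih =>
      rw [pow_succ, Submonoid.coe_mul, ih, pow_succ, pow_succ]
      simp [base, lev, fromBlocks_multiply]
  refine Subtype.ext ?_
  rw [key, pow_orderOf_eq_one, ← Matrix.transpose_nonsing_inv, ← Matrix.transpose_pow,
    Matrix.inv_pow', pow_orderOf_eq_one]
  simp [fromBlocks_one]

theorem exists_psp_class (p : ℕ) [Fact p.Prime] [CharP F p] (h3 : 3 ≤ Fintype.card F) :
    ∃ x : Sp4 ⧸ Subgroup.center Sp4, ¬ p ∣ orderOf x ∧ ∀ g : Sp4 ⧸ Subgroup.center Sp4, g ≠ 1 →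
      ∃ u v : Sp4 ⧸ Subgroup.center Sp4, g = (u * x * u⁻¹) * (v * x * v⁻¹) := by
  obtain ⟨t, d, h⟩ := exists_goodPair h3
  refine ⟨QuotientGroup.mk' _ (base h),
    fun hp => orderOf_base p h (hp.trans (orderOf_map_dvd _ _)), fun q hq => ?_⟩
  obtain ⟨g, rfl⟩ := QuotientGroup.mk'_surjective _ q
  have hg : ¬ (g.1 = 1 ∨ g.1 = -1) := fun e => hq ((QuotientGroup.eq_one_iff g).2 (mem_center_sp_iff.2 e))
  suffices ∃ k : Sp4, Covered h k ∧ QuotientGroup.mk' (Subgroup.center Sp4) g =
      QuotientGroup.mk' (Subgroup.center Sp4) k by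
    obtain ⟨k, ⟨a, b, ha, hb, rfl⟩, e⟩ := this
    obtain ⟨u, rfl⟩ := isConj_iff.1 ha
    obtain ⟨v, rfl⟩ := isConj_iff.1 hb
    exact ⟨QuotientGroup.mk' _ u, QuotientGroup.mk' _ v, by rw [e]; simp only [map_mul, map_inv]⟩
  rcases shape_all g h3 with hs | hs | ⟨a, w, ha, hw, e⟩
  · exact ⟨g, covered_of_good h3 h hs, rfl⟩
  · exact absurd hs hg
  · refine ⟨stv a w, covered_stv h a w ha hw, ?_⟩
    rcases e with e | e
    · rw [show g = stv a w from Subtype.ext e]
    · refine (QuotientGroup.eq).2 (mem_center_sp_iff.2 (Or.inr ?_))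
      rw [show g = negSp (stv a w) from Subtype.ext e]
      have h1 : ((negSp (stv a w))⁻¹).1 * (negSp (stv a w)).1 = 1 := by
        change ((negSp (stv a w))⁻¹ * negSp (stv a w)).1 = 1
        rw [inv_mul_cancel]; rfl
      change ((negSp (stv a w))⁻¹).1 * (stv a w).1 = -1
      rw [show (stv a w).1 = -((negSp (stv a w)).1) by simp [negSp], Matrix.mul_neg, h1]

end CfsgLib.KnownB.PSpFourSquare
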