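import Mathlib

/-!
Products of two matrices with prescribed trace and determinant in dimension two.
-/

set_option autoImplicit false

namespace CfsgLib.KnownB.PSpFourSquare

open Matrix

variable {F : Type*} [Field F]

/-- A trace and determinant pair with irreducible polynomial, determinant not one. -/
structure GoodPair (t d : F) : Prop where
  root : ∀ r : F, r * r - t * r + d ≠ 0
  t_ne : t ≠ 0
  d_ne_one : d ≠ 1

theorem GoodPair.d_ne {t d : F} (h : GoodPair t d) : d ≠ 0 := fun h0 => h.root 0 (by simp [h0])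

theorem exists_goodPair [Fintype F] (h3 : 3 ≤ Fintype.card F) : ∃ t d : F, GoodPair t d := by
  classical
  by_cases hq : Fintype.card F = 3
  · have hc : ∀ r : F, r = 0 ∨ r = 1 ∨ r = -1 := by
      intro r
      by_cases hr : r = 0
      · exact Or.inl hr
      have := FiniteField.pow_card_sub_one_eq_one r hr
      rw [hq] at this
      exact Or.inr (sq_eq_one_iff.1 this)
    have h3' : (3 : F) = 0 := by
      have := FiniteField.cast_card_eq_zero F
      rw [hq] at this
      exact_mod_cast this
    have h1 : (1 : F) ≠ -1 := fun e => one_ne_zero (α := F) (by linear_combination h3' - e)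
    refine ⟨1, -1, fun r hr => ?_, one_ne_zero, Ne.symm h1⟩
    rcases hc r with rfl | rfl | rfl
    · exact one_ne_zero (α := F) (by linear_combination -hr)
    · exact one_ne_zero (α := F) (by linear_combination -hr)
    · exact one_ne_zero (α := F) (by linear_combination hr)
  · obtain ⟨r, hr⟩ := Finset.exists_mem_notMem_of_card_lt_card
      (s := ({0, 1, 2⁻¹} : Finset F)) (t := Finset.univ)
      (lt_of_le_of_lt Finset.card_le_three (by rw [Finset.card_univ]; omega))
    simp only [Finset.mem_insert, Finset.mem_singleton, not_or] at hr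
    obtain ⟨-, hr0, hr1, hr2⟩ := hr
    let f : F → F := fun x => x * (1 - x)
    let T : Finset F := (Finset.univ \ {(1 : F), 1 - r})
    have hne : (1 : F) ≠ 1 - r := fun e => hr0 (by linear_combination e)
    have hcard : T.card + 2 = Fintype.card F := by
      have := Finset.card_sdiff_add_card_eq_card (Finset.subset_univ ({(1 : F), 1 - r} : Finset F))
      rw [Finset.card_pair hne, Finset.card_univ] at this
      exact this
    have himg : ∀ x : F, f x ∈ T.image f := by
      intro x
      have h0 : (0 : F) ∈ T := by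
        simp only [T, Finset.mem_sdiff, Finset.mem_univ, true_and, Finset.mem_insert,
          Finset.mem_singleton, not_or]
        exact ⟨zero_ne_one, fun e => hr1 (by linear_combination e)⟩
      have hrT : r ∈ T := by
        simp only [T, Finset.mem_sdiff, Finset.mem_univ, true_and, Finset.mem_insert,
          Finset.mem_singleton, not_or]
        refine ⟨hr1, fun e => ?_⟩
        by_cases h2 : (2 : F) = 0
        · exact one_ne_zero (α := F) (by linear_combination -e + r * h2)
        · exact hr2 ((mul_eq_one_iff_eq_inv₀ h2).1 (by linear_combination e))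
      by_cases h : x ∈ T
      · exact Finset.mem_image_of_mem f h
      · simp only [T, Finset.mem_sdiff, Finset.mem_univ, true_and, Finset.mem_insert,
          Finset.mem_singleton, not_not] at h
        rcases h with rfl | rfl
        · exact Finset.mem_image.2 ⟨0, h0, by simp [f]⟩
        · exact Finset.mem_image.2 ⟨r, hrT, by simp only [f]; ring⟩
    obtain ⟨d, -, hd⟩ := Finset.exists_mem_notMem_of_card_lt_card
      (s := insert 1 (T.image f)) (t := Finset.univ)
      (lt_of_le_of_lt (Finset.card_insert_le _ _) (by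
        have := Finset.card_image_le (s := T) (f := f)
        rw [Finset.card_univ]; omega))
    rw [Finset.mem_insert, not_or] at hd
    exact ⟨1, d, fun x hx => hd.2 (by
      have := himg x
      rwa [show d = f x from by simp only [f]; linear_combination hx]), one_ne_zero, hd.1⟩

/-- The companion matrix. -/
def comp (t d : F) : Matrix (Fin 2) (Fin 2) F := !![0, -d; 1, t]

theorem sq_eq (M : Matrix (Fin 2) (Fin 2) F) :
    M * M = M.trace • M - M.det • (1 : Matrix (Fin 2) (Fin 2) F) := by
  ext i j
  fin_cases i <;> fin_cases j <;>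
    simp [Matrix.mul_apply, Matrix.trace_fin_two, Matrix.det_fin_two, Fin.sum_univ_two] <;> ring

/-- Conjugate to the companion matrix as soon as some vector is not an eigenvector. -/
theorem exists_conj_comp (M : Matrix (Fin 2) (Fin 2) F) (h : ¬ ∃ c : F, M = c • 1) :
    ∃ P : Matrix (Fin 2) (Fin 2) F, IsUnit P.det ∧ M * P = P * comp M.trace M.det := by
  have key : ∀ v : Fin 2 → F, v 0 * (M *ᵥ v) 1 - v 1 * (M *ᵥ v) 0 ≠ 0 →
      ∃ P : Matrix (Fin 2) (Fin 2) F, IsUnit P.det ∧ M * P = P * comp M.trace M.det := by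
    intro v hv
    refine ⟨!![v 0, (M *ᵥ v) 0; v 1, (M *ᵥ v) 1], ?_, ?_⟩
    · rw [Matrix.det_fin_two_of, isUnit_iff_ne_zero]
      exact fun e => hv (by linear_combination e)
    · ext i j
      fin_cases i <;> fin_cases j <;>
        simp [comp, Matrix.mul_apply, Matrix.mulVec, dotProduct, Matrix.trace_fin_two,
          Matrix.det_fin_two, Fin.sum_univ_two] <;> ring
  by_cases h1 : M 1 0 = 0
  · by_cases h2 : M 0 1 = 0
    · refine key ![1, 1] ?_
      simp only [Matrix.mulVec, dotProduct, Fin.sum_univ_two]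
      simp only [Matrix.cons_val_zero, Matrix.cons_val_one, h1, h2]
      intro e
      refine h ⟨M 0 0, ?_⟩
      ext i j
      fin_cases i <;> fin_cases j <;> simp [h1, h2]
      linear_combination e
    · refine key ![0, 1] ?_
      simpa [Matrix.mulVec, dotProduct, Fin.sum_univ_two] using h2
  · refine key ![1, 0] ?_
    simpa [Matrix.mulVec, dotProduct, Fin.sum_univ_two] using h1

theorem conj_of_trace_det {t d : F} (h : GoodPair t d) (A : Matrix (Fin 2) (Fin 2) F)
    (ht : A.trace = t) (hd : A.det = d) :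
    ∃ P : Matrix (Fin 2) (Fin 2) F, IsUnit P.det ∧ A = P * comp t d * P⁻¹ := by
  obtain ⟨P, hP, hAP⟩ := exists_conj_comp A (by
    rintro ⟨c, rfl⟩
    simp [Matrix.trace_fin_two, Matrix.det_fin_two] at ht hd
    exact h.root c (by subst ht; subst hd; ring))
  rw [ht, hd] at hAP
  refine ⟨P, hP, ?_⟩
  rw [← hAP, Matrix.mul_nonsing_inv_cancel_right _ _ hP]

/-- An elliptic matrix preserves no nonzero bilinear form. -/
theorem eq_zero_of_preserved {t d : F} (h : GoodPair t d) (A T : Matrix (Fin 2) (Fin 2) F)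
    (ht : A.trace = t) (hd : A.det = d) (hT : Aᵀ * T * A = T) : T = 0 := by
  have h2 : A * A = t • A - d • 1 := by rw [sq_eq, ht, hd]
  have h2' : Aᵀ * Aᵀ = t • Aᵀ - d • 1 := by
    rw [sq_eq, Matrix.trace_transpose, Matrix.det_transpose, ht, hd]
  have hu : IsUnit A.det := by rw [hd]; exact isUnit_iff_ne_zero.2 h.d_ne
  have e : Aᵀ * Aᵀ * T * A * A = T := by
    calc Aᵀ * Aᵀ * T * A * A = Aᵀ * (Aᵀ * T * A) * A := by simp only [Matrix.mul_assoc]
      _ = T := by rw [hT, hT]
  have e' : t • (T * A) - d • (T * (A * A)) = T := by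
    rw [h2'] at e
    simp only [Matrix.sub_mul, Matrix.smul_mul, Matrix.one_mul] at e
    rw [hT, Matrix.mul_assoc T A A] at e
    exact e
  have key : T * ((t * (1 - d)) • A + (d * d - 1) • (1 : Matrix (Fin 2) (Fin 2) F)) = 0 := by
    rw [h2, Matrix.mul_sub, Matrix.mul_smul, Matrix.mul_smul, Matrix.mul_one] at e'
    rw [Matrix.mul_add, Matrix.mul_smul, Matrix.mul_smul, Matrix.mul_one]
    linear_combination (norm := module) e'
  have hdet : ((t * (1 - d)) • A + (d * d - 1) • (1 : Matrix (Fin 2) (Fin 2) F)).det =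
      (1 - d) ^ 2 * ((d + 1 - t) * (d + 1 + t)) := by
    have hd' := hd
    have ht' := ht
    simp [Matrix.det_fin_two, Matrix.trace_fin_two] at hd' ht' ⊢
    linear_combination (t * t * (1 - d) ^ 2) * hd' + ((d * d - 1) * t * (1 - d)) * ht'
  have hne : ((t * (1 - d)) • A + (d * d - 1) • (1 : Matrix (Fin 2) (Fin 2) F)).det ≠ 0 := by
    rw [hdet]
    refine mul_ne_zero (pow_ne_zero _ (sub_ne_zero.2 (Ne.symm h.d_ne_one))) (mul_ne_zero ?_ ?_)
    · exact fun e0 => h.root 1 (by linear_combination e0)
    · exact fun e0 => h.root (-1) (by linear_combination e0)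
  have := congrArg (· * ((t * (1 - d)) • A + (d * d - 1) • (1 : Matrix (Fin 2) (Fin 2) F))⁻¹) key
  simpa [Matrix.mul_nonsing_inv_cancel_right _ _ (isUnit_iff_ne_zero.2 hne)] using this

/-- A power of an elliptic matrix of order divisible by the characteristic is trivial. -/
theorem not_dvd_orderOf [Fintype F] (p : ℕ) [Fact p.Prime] [CharP F p] {t d : F}
    (h : GoodPair t d) (A : Matrix (Fin 2) (Fin 2) F) (ht : A.trace = t) (hd : A.det = d) :
    ¬ p ∣ orderOf A := by
  intro hp
  have hA : IsUnit A := (Matrix.isUnit_iff_isUnit_det A).2 (by rw [hd]; exact isUnit_iff_ne_zero.2 h.d_ne)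
  have hfin : IsOfFinOrder A := by
    obtain ⟨u, rfl⟩ := hA
    exact (Units.coeHom _).isOfFinOrder (isOfFinOrder_of_finite u)
  obtain ⟨k, hk⟩ : ∃ k, orderOf (A ^ k) = p :=
    ⟨orderOf A / p, orderOf_pow_orderOf_div hfin.orderOf_pos.ne' hp⟩
  have hlin : ∀ n, ∃ a b : F, A ^ n = a • A + b • 1 := by
    intro n
    induction n with
    | zero => exact ⟨0, 1, by simp⟩
    | succ n ih =>
      obtain ⟨a, b, e⟩ := ih
      refine ⟨a * t + b, -(a * d), ?_⟩
      rw [pow_succ, e, Matrix.add_mul, Matrix.smul_mul, Matrix.smul_mul, Matrix.one_mul, sq_eq, ht, hd]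
      module
  obtain ⟨a, b, e⟩ := hlin k
  have hpow : (A ^ k - 1) ^ p = 0 := by
    rw [sub_pow_char_of_commute p (Commute.one_right _), one_pow, ← hk, pow_orderOf_eq_one, sub_self]
  have hdet : (A ^ k - 1).det = 0 := by
    have := congrArg Matrix.det hpow
    rw [Matrix.det_pow, Matrix.det_zero] at this
    exact eq_zero_of_pow_eq_zero this
  have hd' := hd
  have ht' := ht
  rw [e] at hdet
  simp [Matrix.det_fin_two, Matrix.trace_fin_two] at hd' ht' hdet
  have hq : a * a * d + a * (b - 1) * t + (b - 1) * (b - 1) = 0 := by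
    linear_combination hdet - a * a * hd' - a * (b - 1) * ht'
  have ha : a = 0 := by
    by_contra ha
    refine h.root (-(b - 1) / a) ?_
    field_simp
    linear_combination hq
  have hb : b = 1 := by
    rw [ha] at hq
    exact sub_eq_zero.1 (mul_self_eq_zero.1 (by linear_combination hq))
  rw [e, ha, hb, zero_smul, one_smul, zero_add, orderOf_one] at hk
  exact (Fact.out : p.Prime).one_lt.ne hk

theorem exists_binary_value [Fintype F] {ρ : F} (hρ : ρ * ρ - 4 ≠ 0) (c : F) :
    ∃ a e : F, a * a + ρ * a * e + e * e = c := by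
  by_cases h2 : ringChar F = 2
  · obtain ⟨s, hs⟩ := FiniteField.isSquare_of_char_two h2 c
    exact ⟨s, 0, by rw [hs]; ring⟩
  · have h2' : (2 : F) ≠ 0 := Ring.two_ne_zero h2
    obtain ⟨w, e, hw⟩ := FiniteField.exists_root_sum_quadratic
      (f := (Polynomial.X : Polynomial F) ^ 2 - Polynomial.C (4 * c))
      (g := -Polynomial.C (ρ * ρ - 4) * Polynomial.X ^ 2)
      (Polynomial.degree_X_pow_sub_C (by norm_num) _)
      (by rw [← Polynomial.C_neg, Polynomial.degree_C_mul_X_pow 2 (neg_ne_zero.2 hρ)]; rfl)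
      (FiniteField.odd_card_of_char_ne_two h2)
    simp at hw
    refine ⟨(w - ρ * e) / 2, e, ?_⟩
    field_simp
    linear_combination hw

theorem exists_solution [Fintype F] {t d ρ : F} (h : GoodPair t d) (hρ : ρ ≠ 2) :
    ∃ a e : F, a * a + ρ * a * e + e * e - t * a - t * e + d = 0 := by
  by_cases hm : ρ = -2
  · subst hm
    have ht : 2 * t ≠ 0 :=
      mul_ne_zero (fun e => hρ (by linear_combination -2 * e)) h.t_ne
    refine ⟨d / (2 * t), d / (2 * t), ?_⟩
    have e1 : d / (2 * t) * (2 * t) = d := div_mul_cancel₀ _ ht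
    linear_combination -e1
  · have hρ2 : ρ + 2 ≠ 0 := fun e => hm (by linear_combination e)
    have hne : ρ * ρ - 4 ≠ 0 := by
      rw [show ρ * ρ - 4 = (ρ - 2) * (ρ + 2) by ring]
      exact mul_ne_zero (sub_ne_zero.2 hρ) hρ2
    set k := t / (ρ + 2) with hk
    obtain ⟨a, e, hae⟩ := exists_binary_value hne (-(d - t * k))
    refine ⟨a + k, e + k, ?_⟩
    have e1 : k * (ρ + 2) = t := div_mul_cancel₀ _ hρ2
    linear_combination hae + (a + e + k) * e1

/-- A product of two matrices of trace `t` and determinant `d`. -/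
def IsTwoProd (t d : F) (M : Matrix (Fin 2) (Fin 2) F) : Prop :=
  ∃ A B : Matrix (Fin 2) (Fin 2) F,
    A.trace = t ∧ A.det = d ∧ B.trace = t ∧ B.det = d ∧ M = A * B

theorem isTwoProd_scalar (t d : F) :
    IsTwoProd t d (d • (1 : Matrix (Fin 2) (Fin 2) F)) :=
  ⟨comp t d, !![t, d; -1, 0], by simp [comp, Matrix.trace_fin_two],
    by simp [comp, Matrix.det_fin_two_of], by simp [Matrix.trace_fin_two],
    by simp [Matrix.det_fin_two_of], by
      ext i j
      fin_cases i <;> fin_cases j <;> simp [comp, Matrix.mul_apply, Fin.sum_univ_two]⟩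

theorem isTwoProd_of_trace [Fintype F] {t d : F} (h : GoodPair t d)
    (M : Matrix (Fin 2) (Fin 2) F) (hns : ¬ ∃ c : F, M = c • 1) (hdet : M.det = d * d)
    (htr : M.trace ≠ 2 * d) : IsTwoProd t d M := by
  have hd0 := h.d_ne
  obtain ⟨a, e, hae⟩ := exists_solution h (ρ := M.trace / d)
    (fun e => htr ((div_eq_iff hd0).1 e))
  have hτ : M.trace / d * d = M.trace := div_mul_cancel₀ _ hd0
  generalize M.trace / d = ρ at hae hτ
  let A1 : Matrix (Fin 2) (Fin 2) F := !![a, d * e + a * M.trace - t * d; e / d, t - a]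
  let A2 : Matrix (Fin 2) (Fin 2) F := d⁻¹ • (A1.adjugate * comp M.trace M.det)
  obtain ⟨P, hP, hMP⟩ := exists_conj_comp M hns
  have he : e / d * d = e := div_mul_cancel₀ _ hd0
  have hA1 : A1.det = d := by
    simp only [A1, Matrix.det_fin_two_of, ← hτ]
    linear_combination -hae + (-e - a * ρ + t) * he
  have hA1t : A1.trace = t := by simp [A1, Matrix.trace_fin_two]
  have hA2t : A2.trace = t := by
    simp [A2, A1, comp, Matrix.trace_fin_two, Matrix.adjugate_fin_two, Matrix.mul_apply,
      Fin.sum_univ_two, hdet]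
    field_simp
    ring
  have hA2d : A2.det = d := by
    simp only [A2]
    rw [Matrix.det_smul, Matrix.det_mul, Matrix.det_adjugate, hA1]
    simp [comp, Matrix.det_fin_two_of, hdet]
    field_simp
  have hprod : comp M.trace M.det = A1 * A2 := by
    simp only [A2, Matrix.mul_smul, ← Matrix.mul_assoc, Matrix.mul_adjugate, hA1, Matrix.smul_mul,
      Matrix.one_mul, smul_smul, inv_mul_cancel₀ hd0, one_smul]
  refine ⟨P * A1 * P⁻¹, P * A2 * P⁻¹, ?_, ?_, ?_, ?_, ?_⟩
  · rw [Matrix.trace_mul_cycle, Matrix.nonsing_inv_mul _ hP, Matrix.one_mul, hA1t]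
  · rw [Matrix.det_conj ((Matrix.isUnit_iff_isUnit_det P).2 hP), hA1]
  · rw [Matrix.trace_mul_cycle, Matrix.nonsing_inv_mul _ hP, Matrix.one_mul, hA2t]
  · rw [Matrix.det_conj ((Matrix.isUnit_iff_isUnit_det P).2 hP), hA2d]
  · rw [show P * A1 * P⁻¹ * (P * A2 * P⁻¹) = P * (A1 * (P⁻¹ * P) * A2) * P⁻¹ by
      simp only [Matrix.mul_assoc], Matrix.nonsing_inv_mul _ hP, Matrix.mul_one, ← hprod, ← hMP,
      Matrix.mul_nonsing_inv_cancel_right _ _ hP]

/-- The symmetric factor moving an invertible lower block to a product. -/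
theorem exists_symm_twoProd [Fintype F] (h3 : 3 ≤ Fintype.card F) {t d : F} (h : GoodPair t d)
    (N : Matrix (Fin 2) (Fin 2) F) (hN : IsUnit N.det) :
    ∃ S : Matrix (Fin 2) (Fin 2) F, Sᵀ = S ∧ IsTwoProd t d (S * N) := by
  classical
  by_cases hs : Nᵀ = N
  · refine ⟨d • N⁻¹, by rw [Matrix.transpose_smul, Matrix.transpose_nonsing_inv, hs], ?_⟩
    rw [Matrix.smul_mul, Matrix.nonsing_inv_mul _ hN]
    exact isTwoProd_scalar t d
  · have hN0 : N.det ≠ 0 := isUnit_iff_ne_zero.1 hN
    set δ := d * d / N.det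
    suffices ∃ r s : F, r ≠ 0 ∧
        (!![(δ + s * s) / r, s; s, r] * N).trace ≠ 2 * d by
      obtain ⟨r, s, hr, htr⟩ := this
      let S : Matrix (Fin 2) (Fin 2) F := !![(δ + s * s) / r, s; s, r]
      have hS : Sᵀ = S := by ext i j; fin_cases i <;> fin_cases j <;> rfl
      have hSd : S.det = δ := by
        simp only [S, Matrix.det_fin_two_of]; field_simp; ring
      have hSN : (S * N).det = d * d := by
        rw [Matrix.det_mul, hSd]; exact div_mul_cancel₀ _ hN0
      refine ⟨S, hS, isTwoProd_of_trace h _ ?_ hSN htr⟩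
      rintro ⟨c, hc⟩
      refine hs ?_
      have hu : IsUnit S.det := by
        rw [hSd]; exact isUnit_iff_ne_zero.2 (div_ne_zero (mul_ne_zero h.d_ne h.d_ne) hN0)
      have : N = c • S⁻¹ := by
        rw [← Matrix.nonsing_inv_mul_cancel_left _ N hu, hc, Matrix.mul_smul, Matrix.mul_one]
      rw [this, Matrix.transpose_smul, Matrix.transpose_nonsing_inv, hS]
    have htr : ∀ r s : F, (!![(δ + s * s) / r, s; s, r] * N).trace =
        (δ + s * s) / r * N 0 0 + s * (N 1 0 + N 0 1) + r * N 1 1 := fun r s => by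
      simp [Matrix.trace_fin_two, Matrix.vecMul, dotProduct, Fin.sum_univ_two]; ring
    simp only [htr]
    by_cases hlin : N 0 0 = 0 ∧ N 1 0 + N 0 1 = 0
    · obtain ⟨r, -, hr⟩ := Finset.exists_mem_notMem_of_card_lt_card
        (s := ({0, 2 * d / N 1 1} : Finset F)) (t := Finset.univ)
        (lt_of_le_of_lt Finset.card_le_two (by rw [Finset.card_univ]; omega))
      simp only [Finset.mem_insert, Finset.mem_singleton, not_or] at hr
      refine ⟨r, 0, hr.1, ?_⟩
      simp only [hlin.1, hlin.2, mul_zero, zero_add]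
      by_cases h11 : N 1 1 = 0
      · rw [h11, mul_zero]
        refine (mul_ne_zero (fun h2 => hs ?_) h.d_ne).symm
        ext i j
        fin_cases i <;> fin_cases j <;> simp [Matrix.transpose_apply]
        · linear_combination hlin.2 - N 0 1 * h2
        · linear_combination -hlin.2 + N 0 1 * h2
      · exact fun e => hr.2 (eq_div_iff h11 |>.2 e)
    · let P : Polynomial F := Polynomial.C (N 0 0) * Polynomial.X ^ 2 +
        Polynomial.C (N 1 0 + N 0 1) * Polynomial.X + Polynomial.C (δ * N 0 0 + N 1 1 - 2 * d)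
      have hP : P ≠ 0 := by
        intro e
        refine hlin ⟨?_, ?_⟩
        · simpa [P] using congrArg (·.coeff 2) e
        · simpa [P] using congrArg (·.coeff 1) e
      obtain ⟨s, -, hsP⟩ := Finset.exists_mem_notMem_of_card_lt_card
        (s := P.roots.toFinset) (t := Finset.univ)
        (lt_of_le_of_lt ((Multiset.toFinset_card_le _).trans ((Polynomial.card_roots' P).trans
          Polynomial.natDegree_quadratic_le)) (by rw [Finset.card_univ]; omega))
      rw [Multiset.mem_toFinset, Polynomial.mem_roots hP] at hsP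
      refine ⟨1, s, one_ne_zero, fun e => hsP ?_⟩
      simp only [Polynomial.IsRoot.def, P, Polynomial.eval_add, Polynomial.eval_mul,
        Polynomial.eval_C, Polynomial.eval_pow, Polynomial.eval_X]
      linear_combination e

end CfsgLib.KnownB.PSpFourSquare
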